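import Groth.Agent.GrBC.Dehom
import Groth.Agent.LFFrame.Basic
import Groth.Agent.Omega.Stalks
import Groth.Agent.GrModLib.RelTwistLoc

/-!
The inverse image of `M(n)~` along the morphism of `Proj`s of a graded homomorphism is the module
of the base change, for rings generated in degree one.
-/

universe u

open DirectSum CategoryTheory AlgebraicGeometry TopologicalSpace Opposite
open scoped HomogeneousIdeal

noncomputable section

namespace Groth.Agent.GrBC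

open GrModLib PullStalk.Sky PullStalk.Exact

variable {A σ : Type u} [CommRing A] [SetLike σ A] [AddSubgroupClass σ A] {𝒜 : ℕ → σ} [GradedRing 𝒜]
  {B σ' : Type u} [CommRing B] [SetLike σ' B] [AddSubgroupClass σ' B] {ℬ : ℕ → σ'} [GradedRing ℬ]
  (ψ : 𝒜 →+*ᵍ ℬ) (hψ : ℬ₊ ≤ (𝒜₊).map ψ)
  {M τ : Type u} [AddCommGroup M] [Module A M] [SetLike τ M] [AddSubgroupClass τ M] (ℳ : ℕ → τ)
  [SetLike.GradedSMul 𝒜 ℳ] [DirectSum.Decomposition ℳ]
  {N τ' : Type u} [AddCommGroup N] [Module B N] [SetLike τ' N] [AddSubgroupClass τ' N] (𝒩 : ℕ → τ')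
  [SetLike.GradedSMul ℬ 𝒩] [DirectSum.Decomposition 𝒩]
  (v : M →ₛₗ[ψ.toRingHom] N) (hv : ∀ (i : ℕ) (m : M), m ∈ ℳ i → v m ∈ 𝒩 i) (n : ℤ)

/-- The adjunct of the comparison map. -/
abbrev adjunct : (Scheme.Modules.pullback (Proj.map ψ hψ)).obj (GrMod.tilde 𝒜 ℳ n) ⟶
    GrMod.tilde ℬ 𝒩 n :=
  ((Scheme.Modules.pullbackPushforwardAdjunction (Proj.map ψ hψ)).homEquiv _ _).symm
    (GrMod.comap ψ hψ v hv n)

omit [DirectSum.Decomposition ℳ] [DirectSum.Decomposition 𝒩] in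
lemma adjunct_unitSec (U : (Proj 𝒜).Opens) (m : Γ(GrMod.tilde 𝒜 ℳ n, U)) :
    (adjunct ψ hψ ℳ 𝒩 v hv n).app (Proj.map ψ hψ ⁻¹ᵁ U) (LFFrame.unitSec _ _ U m) =
      (GrMod.comap ψ hψ v hv n).app U m :=
  congrArg (fun φ : GrMod.tilde 𝒜 ℳ n ⟶ (Scheme.Modules.pushforward (Proj.map ψ hψ)).obj
      (GrMod.tilde ℬ 𝒩 n) => Scheme.Modules.Hom.app φ U m)
    (((Scheme.Modules.pullbackPushforwardAdjunction (Proj.map ψ hψ)).homEquiv_unit _ _ _).symm.trans
      (Equiv.apply_symm_apply _ _))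

variable {g : A} (hg : g ∈ 𝒜 1)

lemma preimage_le : Proj.map ψ hψ ⁻¹ᵁ Proj.basicOpen 𝒜 g ≤ Proj.basicOpen ℬ (ψ g) := fun y hy ↦
  (Proj.mem_basicOpen ℬ (ψ g) y).mpr ((Proj.mem_basicOpen 𝒜 g
    (ProjectiveSpectrum.comap ψ hψ (show ProjectiveSpectrum ℬ from y))).mp hy)

/-- The dehomogenisation upstairs. -/
abbrev β : B →+* Γ(Proj ℬ, Proj.map ψ hψ ⁻¹ᵁ Proj.basicOpen 𝒜 g) :=
  dehom (ψ.map_mem hg) (preimage_le ψ hψ)

lemma app_dehom (a : A) :
    (Proj.map ψ hψ).app (Proj.basicOpen 𝒜 g) (dehom hg le_rfl a) = β ψ hψ hg (ψ a) := by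
  change (((Proj.map ψ hψ).app (Proj.basicOpen 𝒜 g)).hom.comp (dehom hg le_rfl)) a =
    ((β ψ hψ hg).comp ψ.toRingHom) a
  induction a using DirectSum.Decomposition.inductionOn 𝒜 with
  | zero => rw [map_zero, map_zero]
  | add a b ha hb => rw [map_add, map_add, ha, hb]
  | @homogeneous i a =>
    refine funVal_ext fun y hy ↦ ?_
    refine (HomogeneousLocalization.val_localRingHom _).trans ?_
    refine (congrArg (GrTwist.locMap ψ hψ y) (funVal_dehom hg le_rfl a.2 _ hy)).trans ?_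
    refine (GrTwist.locMap_mk ψ hψ y _ _).trans ?_
    refine Eq.trans ?_ (funVal_dehom (ψ.map_mem hg) (preimage_le ψ hψ) (ψ.map_mem a.2) y hy).symm
    exact congrArg (Localization.mk _) (Subtype.ext (map_pow ψ g i))

lemma app_dehomMod (m : M) :
    (GrMod.comap ψ hψ v hv n).app (Proj.basicOpen 𝒜 g) (dehomMod hg le_rfl (ℳ := ℳ) n m) =
      dehomMod (ψ.map_mem hg) (preimage_le ψ hψ) (ℳ := 𝒩) n (v m) := by
  let L := ((GrMod.comap ψ hψ v hv n).app (Proj.basicOpen 𝒜 g)).hom.comp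
    (dehomMod hg le_rfl (ℳ := ℳ) n)
  let R := (dehomMod (ψ.map_mem hg) (preimage_le ψ hψ) (ℳ := 𝒩) n).comp v.toAddMonoidHom
  change L m = R m
  induction m using DirectSum.Decomposition.inductionOn ℳ with
  | zero => exact (map_zero L).trans (map_zero R).symm
  | add a b ha hb =>
    exact (map_add L a b).trans ((congrArg₂ (· + ·) ha hb).trans (map_add R a b).symm)
  | @homogeneous i m =>
    refine sect_ext fun y hy ↦ ?_
    refine (congrArg (GrMod.locModMap ψ hψ v y) (val_dehomMod hg le_rfl n m.2 _ hy)).trans ?_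
    refine (GrMod.locModMap_mk ψ hψ v y _ _).trans ?_
    refine Eq.trans ?_
      (val_dehomMod (ψ.map_mem hg) (preimage_le ψ hψ) n (hv i _ m.2) y hy).symm
    refine congrArg₂ LocalizedModule.mk ?_ (Subtype.ext (map_pow ψ g _))
    rw [LinearMap.map_smulₛₗ]
    exact congrArg (· • v (m : M)) (map_pow ψ g _)

variable {ψ hψ ℳ 𝒩 v hv n}

omit [DirectSum.Decomposition 𝒩] in
/-- The universal property gives sections of the inverse image. -/
theorem exists_sec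
    (hbc : ∀ (Q : Type u) [AddCommGroup Q] [Module B Q] (w : M →ₛₗ[ψ.toRingHom] Q),
      ∃! h : N →ₗ[B] Q, ∀ m : M, h (v m) = w m) :
    ∃ G : N →+ Γ((Scheme.Modules.pullback (Proj.map ψ hψ)).obj (GrMod.tilde 𝒜 ℳ n),
        Proj.map ψ hψ ⁻¹ᵁ Proj.basicOpen 𝒜 g),
      (∀ b x, G (b • x) = β ψ hψ hg b • G x) ∧
      ∀ m, G (v m) = LFFrame.unitSec _ _ _ (dehomMod hg le_rfl (ℳ := ℳ) n m) := by
  let := Module.compHom Γ((Scheme.Modules.pullback (Proj.map ψ hψ)).obj (GrMod.tilde 𝒜 ℳ n),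
    Proj.map ψ hψ ⁻¹ᵁ Proj.basicOpen 𝒜 g) (β ψ hψ hg)
  let w : M →ₛₗ[ψ.toRingHom] Γ((Scheme.Modules.pullback (Proj.map ψ hψ)).obj (GrMod.tilde 𝒜 ℳ n),
      Proj.map ψ hψ ⁻¹ᵁ Proj.basicOpen 𝒜 g) :=
    { toFun m := LFFrame.unitSec _ _ _ (dehomMod hg le_rfl (ℳ := ℳ) n m)
      map_add' a b := by rw [map_add, map_add]
      map_smul' a m := by
        change _ = β ψ hψ hg (ψ a) • LFFrame.unitSec _ _ _ _
        rw [dehomMod_smul hg le_rfl n a m, LFFrame.unitSec_smul, app_dehom] }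
  obtain ⟨G, hG, -⟩ := hbc _ w
  exact ⟨G.toAddMonoidHom, fun b x ↦ G.map_smul b x, hG⟩

/-- The sections of `exists_sec` go to the dehomogenisations. -/
theorem adjunct_sec
    (hbc : ∀ (Q : Type u) [AddCommGroup Q] [Module B Q] (w : M →ₛₗ[ψ.toRingHom] Q),
      ∃! h : N →ₗ[B] Q, ∀ m : M, h (v m) = w m)
    (G : N →+ Γ((Scheme.Modules.pullback (Proj.map ψ hψ)).obj (GrMod.tilde 𝒜 ℳ n),
        Proj.map ψ hψ ⁻¹ᵁ Proj.basicOpen 𝒜 g))
    (hG : ∀ b x, G (b • x) = β ψ hψ hg b • G x)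
    (hGv : ∀ m, G (v m) = LFFrame.unitSec _ _ _ (dehomMod hg le_rfl (ℳ := ℳ) n m)) (x : N) :
    (adjunct ψ hψ ℳ 𝒩 v hv n).app _ (G x) =
      dehomMod (ψ.map_mem hg) (preimage_le ψ hψ) (ℳ := 𝒩) n x := by
  let := Module.compHom Γ(GrMod.tilde ℬ 𝒩 n, Proj.map ψ hψ ⁻¹ᵁ Proj.basicOpen 𝒜 g) (β ψ hψ hg)
  let L₁ : N →ₗ[B] Γ(GrMod.tilde ℬ 𝒩 n, Proj.map ψ hψ ⁻¹ᵁ Proj.basicOpen 𝒜 g) :=
    { toFun x := (adjunct ψ hψ ℳ 𝒩 v hv n).app _ (G x)
      map_add' a b := by rw [map_add, map_add]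
      map_smul' b x := by
        change _ = β ψ hψ hg b • (adjunct ψ hψ ℳ 𝒩 v hv n).app _ (G x)
        rw [hG, Scheme.Modules.Hom.app_smul] }
  let L₂ : N →ₗ[B] Γ(GrMod.tilde ℬ 𝒩 n, Proj.map ψ hψ ⁻¹ᵁ Proj.basicOpen 𝒜 g) :=
    { toFun x := dehomMod (ψ.map_mem hg) (preimage_le ψ hψ) (ℳ := 𝒩) n x
      map_add' a b := map_add _ a b
      map_smul' b x := dehomMod_smul (ψ.map_mem hg) (preimage_le ψ hψ) n b x }
  let w : M →ₛₗ[ψ.toRingHom] Γ(GrMod.tilde ℬ 𝒩 n, Proj.map ψ hψ ⁻¹ᵁ Proj.basicOpen 𝒜 g) :=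
    { toFun m := L₂ (v m)
      map_add' a b := by rw [map_add, map_add]
      map_smul' a m := by rw [LinearMap.map_smulₛₗ, map_smul] }
  obtain ⟨_, -, huniq⟩ := hbc _ w
  have h : L₁ = L₂ := (huniq L₁ fun m ↦ by
    change (adjunct ψ hψ ℳ 𝒩 v hv n).app _ (G (v m)) = _
    rw [hGv, adjunct_unitSec, app_dehomMod]
    rfl).trans (huniq L₂ fun m ↦ rfl).symm
  exact congr($h x)

section Stalk

variable (hbc : ∀ (Q : Type u) [AddCommGroup Q] [Module B Q] (w : M →ₛₗ[ψ.toRingHom] Q),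
      ∃! h : N →ₗ[B] Q, ∀ m : M, h (v m) = w m)

include hg hbc in
/-- The adjunct is bijective on the stalks over `D₊(g)`. -/
theorem bijective_stalkLin (y : Proj ℬ) (hy : y ∈ Proj.map ψ hψ ⁻¹ᵁ Proj.basicOpen 𝒜 g) :
    Function.Bijective (stalkLin (adjunct ψ hψ ℳ 𝒩 v hv n) y) := by
  obtain ⟨G, hG, hGv⟩ := exists_sec (hψ := hψ) (ℳ := ℳ) (n := n) hg hbc
  have hφG := adjunct_sec (hv := hv) (𝒩 := 𝒩) hg hbc G hG hGv
  have hgy : ψ g ∉ (show ProjectiveSpectrum ℬ from y).asHomogeneousIdeal :=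
    (Proj.mem_basicOpen ℬ _ y).mp (preimage_le ψ hψ hy)
  let ρ : B →+* (Proj ℬ).presheaf.stalk y :=
    ((Proj ℬ).presheaf.germ _ y hy).hom.comp (β ψ hψ hg)
  let G' : N →+ ((Scheme.Modules.pullback (Proj.map ψ hψ)).obj
      (GrMod.tilde 𝒜 ℳ n)).presheaf.stalk y :=
    (((Scheme.Modules.pullback (Proj.map ψ hψ)).obj
      (GrMod.tilde 𝒜 ℳ n)).presheaf.germ _ y hy).hom.comp G
  have hG' : ∀ b x, G' (b • x) = ρ b • G' x := fun b x ↦ by
    change germM _ _ y hy (G (b • x)) = _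
    rw [hG, germM_smul]
    rfl
  have hρg : ∀ k, ρ (ψ g ^ k) = 1 := fun k ↦ by
    change (Proj ℬ).presheaf.germ _ y hy (β ψ hψ hg (ψ g ^ k)) = 1
    exact (congrArg _ (dehom_self_pow (ψ.map_mem hg) (preimage_le ψ hψ) k)).trans (map_one _)
  have hunit : ∀ {j : ℕ} {s : B}, s ∈ ℬ j → s ∉ (show ProjectiveSpectrum ℬ from y).asHomogeneousIdeal →
      IsUnit (ρ s) := fun {j s} hs hsy ↦ by
    refine ((Proj ℬ).mem_basicOpen (β ψ hψ hg s) y hy).mp ?_
    change y ∈ (Proj ℬ).basicOpen (dehom (ψ.map_mem hg) (preimage_le ψ hψ) s)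
    rw [dehom_of_mem _ _ hs]
    exact (basicOpen_ratFun hs (pow_mem_one j (ψ.map_mem hg))
      (fun z hz ↦ (Proj.mem_basicOpen ℬ _ z).mpr (pow_nin (nin_of_le hz (preimage_le ψ hψ)) j))).ge
      ⟨hy, (Proj.mem_basicOpen ℬ s y).mpr hsy⟩
  -- every element of the stalk of the inverse image is `G' x / s`
  let Rep := fun t : ((Scheme.Modules.pullback (Proj.map ψ hψ)).obj
      (GrMod.tilde 𝒜 ℳ n)).presheaf.stalk y ↦
    ∃ (j : ℕ) (s : B), s ∈ ℬ j ∧ s ∉ (show ProjectiveSpectrum ℬ from y).asHomogeneousIdeal ∧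
      ∃ (i : ℕ) (x : N), x ∈ 𝒩 i ∧ ρ s • t = G' x
  have hrep : ∀ t, Rep t := by
    intro t
    let := ((Proj.map ψ hψ).stalkMap y).hom.toAlgebra
    let := PullStalk.Basic.moduleOver (Proj.map ψ hψ) (GrMod.tilde 𝒜 ℳ n) y
    have : IsScalarTower ((Proj 𝒜).presheaf.stalk ((Proj.map ψ hψ) y))
        ((Proj ℬ).presheaf.stalk y) (((Scheme.Modules.pullback (Proj.map ψ hψ)).obj
          (GrMod.tilde 𝒜 ℳ n)).presheaf.stalk y) :=
      IsScalarTower.of_algebraMap_smul fun _ _ => rfl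
    refine (PullStalk.Basic.isBaseChange_unitStalk (Proj.map ψ hψ) (GrMod.tilde 𝒜 ℳ n) y).inductionOn
      t Rep ⟨0, 1, SetLike.GradedOne.one_mem, GrMod.one_nin _, 0, 0, zero_mem _, by simp⟩ ?_ ?_ ?_
    · intro w
      obtain ⟨U, hxU, m, rfl⟩ := exists_germM_eq _ _ w
      let x : ProjectiveSpectrum 𝒜 := ProjectiveSpectrum.comap ψ hψ (show ProjectiveSpectrum ℬ from y)
      obtain ⟨j, k, s, q, hs, hq, hk, hsx, hval⟩ := exists_local_frac' n
        (show GrMod.sect 𝒜 ℳ n (op U) from m) x hxU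
      refine ⟨j, ψ s, ψ.map_mem hs, hsx, k, v q, hv k q hq, ?_⟩
      let W : (Proj 𝒜).Opens := U ⊓ Proj.basicOpen 𝒜 g ⊓ Proj.basicOpen 𝒜 s
      have hxW : (Proj.map ψ hψ) y ∈ W := ⟨⟨hxU, hy⟩, (Proj.mem_basicOpen 𝒜 s x).mpr hsx⟩
      have key : QCoh.rres (show W ≤ Proj.basicOpen 𝒜 g from fun _ h ↦ h.1.2) (dehom hg le_rfl s) •
            QCoh.res (GrMod.tilde 𝒜 ℳ n) (show W ≤ U from fun _ h ↦ h.1.1) m =
          QCoh.res (GrMod.tilde 𝒜 ℳ n) (show W ≤ Proj.basicOpen 𝒜 g from fun _ h ↦ h.1.2)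
            (dehomMod hg le_rfl (ℳ := ℳ) n q) := by
        refine sect_ext fun z hz ↦ ?_
        refine (GrMod.coe_smul_val n z _ _).trans ?_
        have hzs := (Proj.mem_basicOpen 𝒜 s z).mp hz.2
        obtain ⟨_, e⟩ := hval z hzs
        refine (congrArg₂ (· • ·) (funVal_dehom hg le_rfl hs z hz.1.2) e).trans ?_
        refine Eq.trans ?_ (val_dehomMod hg le_rfl n hq z hz.1.2).symm
        rw [GrModLib.mk, GrModLib.mk, LocalizedModule.mk_smul_mk]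
        refine LocalizedModule.mk_eq.mpr ⟨1, ?_⟩
        simp only [one_smul, Submonoid.smul_def, Submonoid.coe_mul, smul_smul]
        congr 1
        rw [show (-n).toNat + k = n.toNat + j by omega, pow_add]
        ring
      have h1 := congrArg (fun z ↦ PullStalk.Basic.unitStalkHom (Proj.map ψ hψ) _ y
        (germM (GrMod.tilde 𝒜 ℳ n) W _ hxW z)) key
      simp only [germM_smul, PullStalk.Basic.unitStalkHom_smul] at h1
      rw [show G' (v q) = _ from congrArg (germM _ _ y hy) (hGv q)]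
      refine Eq.trans ?_ (h1.trans ?_)
      · refine congrArg₂ (· • ·) ?_ ?_
        · change (Proj ℬ).presheaf.germ _ y hy (β ψ hψ hg (ψ s)) = _
          rw [← app_dehom, ← Scheme.Hom.germ_stalkMap_apply]
          exact congrArg _ ((Proj 𝒜).presheaf.germ_res_apply _ _ hxW _).symm
        · exact congrArg _ ((GrMod.tilde 𝒜 ℳ n).presheaf.germ_res_apply _ _ hxW _).symm
      · exact (congrArg _ ((GrMod.tilde 𝒜 ℳ n).presheaf.germ_res_apply _ _ hxW _)).trans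
          (PullStalk.Basic.unitStalkHom_germ _ _ y (Proj.basicOpen 𝒜 g) hy _)
    · rintro c t ⟨j, s, hs, hsy, i, x, hx, e⟩
      obtain ⟨W, hyW, c', rfl⟩ := (Proj ℬ).presheaf.exists_germ_eq (x := y) c
      obtain ⟨V, hyV, iV, k, ⟨a, ha⟩, ⟨s', hs'⟩, hnin, w⟩ :=
        (show GrTwist.O (𝒜 := ℬ) (op W) from c').2 ⟨y, hyW⟩
      have key : ρ s' * (Proj ℬ).presheaf.germ W y hyW c' = ρ a := by
        let V' : (Proj ℬ).Opens := V ⊓ Proj.map ψ hψ ⁻¹ᵁ Proj.basicOpen 𝒜 g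
        have e1 : QCoh.rres (inf_le_right : V' ≤ _) (β ψ hψ hg s') *
            QCoh.rres (inf_le_left.trans iV.le : V' ≤ W) c' =
            QCoh.rres (inf_le_right : V' ≤ _) (β ψ hψ hg a) := funVal_ext fun z hz ↦ by
          rw [funVal_mul]
          have := (show ProjectiveSpectrum ℬ from z).isPrime
          refine (congrArg₂ (· * ·) (funVal_dehom _ _ hs' z hz.2)
            ((congrArg HomogeneousLocalization.val (w ⟨z, hz.1⟩)).trans
              (HomogeneousLocalization.val_mk _))).trans ?_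
          refine Eq.trans ?_ (funVal_dehom _ _ ha z hz.2).symm
          rw [Localization.mk_mul, Localization.mk_eq_mk_iff, Localization.r_iff_exists]
          exact ⟨1, by simp only [Submonoid.coe_mul, OneMemClass.coe_one]; ring⟩
        have h1 := congrArg ((Proj ℬ).presheaf.germ V' y ⟨hyV, hy⟩) e1
        rw [map_mul, (Proj ℬ).presheaf.germ_res_apply, (Proj ℬ).presheaf.germ_res_apply,
          (Proj ℬ).presheaf.germ_res_apply] at h1
        exact h1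
      refine ⟨k + j, s' * s, SetLike.mul_mem_graded hs' hs,
        fun h ↦ ((show ProjectiveSpectrum ℬ from y).isPrime.mem_or_mem h).elim (hnin ⟨y, hyV⟩) hsy,
        k + i, a • x, SetLike.GradedSMul.smul_mem ha hx, ?_⟩
      rw [map_mul, smul_smul, mul_right_comm, key, mul_smul, e, ← hG']
    · rintro t t' ⟨j, s, hs, hsy, i, x, hx, e⟩ ⟨j', s', hs', hsy', i', x', hx', e'⟩
      refine ⟨j + j', s * s', SetLike.mul_mem_graded hs hs',
        fun h ↦ ((show ProjectiveSpectrum ℬ from y).isPrime.mem_or_mem h).elim hsy hsy',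
        j' + i + (j + i'), (ψ g ^ (j + i') * s') • x + (ψ g ^ (j' + i) * s) • x', add_mem ?_ ?_, ?_⟩
      · have := SetLike.GradedSMul.smul_mem (B := 𝒩)
          (SetLike.mul_mem_graded (pow_mem_one (j + i') (ψ.map_mem hg)) hs') hx
        rwa [show (j + i' + j') +ᵥ i = j' + i + (j + i') by rw [vadd_eq_add]; omega] at this
      · have := SetLike.GradedSMul.smul_mem (B := 𝒩)
          (SetLike.mul_mem_graded (pow_mem_one (j' + i) (ψ.map_mem hg)) hs) hx'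
        rwa [show (j' + i + j) +ᵥ i' = j' + i + (j + i') by rw [vadd_eq_add]; omega] at this
      · rw [map_add, hG', hG', map_mul ρ (ψ g ^ _), map_mul ρ (ψ g ^ _), hρg, hρg, one_mul, one_mul,
          map_mul, ← e, ← e', smul_smul, smul_smul, smul_add, mul_comm (ρ s') (ρ s)]
  have hφ : ∀ x, stalkLin (adjunct ψ hψ ℳ 𝒩 v hv n) y (G' x) =
      germM _ _ y hy (dehomMod (ψ.map_mem hg) (preimage_le ψ hψ) (ℳ := 𝒩) n x) := fun x ↦
    (stalkLin_germ _ _ y hy _).trans (congrArg _ (hφG x))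
  refine ⟨(injective_iff_map_eq_zero _).mpr fun t ht ↦ ?_, fun t ↦ ?_⟩
  · obtain ⟨j, s, hs, hsy, i, x, hx, e⟩ := hrep t
    suffices hx0 : G' x = 0 by
      rw [hx0] at e
      exact (hunit hs hsy).smul_eq_zero.mp e
    have h1 : germM (GrMod.tilde ℬ 𝒩 n) _ y hy
        (dehomMod (ψ.map_mem hg) (preimage_le ψ hψ) (ℳ := 𝒩) n x) = 0 := by
      rw [← hφ, ← e, map_smul, ht, smul_zero]
    obtain ⟨V, hyV, i₁, i₂, h2⟩ := (GrMod.tilde ℬ 𝒩 n).presheaf.germ_eq y hy hy _ _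
      (h1.trans (map_zero _).symm)
    rw [map_zero] at h2
    have h3 : GrMod.val (dehomMod (ψ.map_mem hg) (preimage_le ψ hψ) (ℳ := 𝒩) n x) ⟨y, hy⟩ = 0 :=
      congrArg (fun z ↦ GrMod.val (V := V) z ⟨y, hyV⟩) h2
    rw [val_dehomMod _ _ n hx y hy] at h3
    obtain ⟨c, hc, hcx⟩ := mk_eq_zero_iff.mp h3
    have hmem : ψ g ^ n.toNat • x ∈ 𝒩 (n.toNat + i) :=
      SetLike.GradedSMul.smul_mem (pow_mem_one n.toNat (ψ.map_mem hg)) hx
    obtain ⟨k, c', hc', hc'y, hc'x⟩ := exists_hom_smul_eq_zero (𝒜 := ℬ) hmem hc hcx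
    have h4 : ρ c' • G' x = 0 := by
      rw [← mul_one (ρ c'), ← hρg n.toNat, mul_smul, ← hG', ← hG', hc'x, map_zero]
    exact (hunit hc' hc'y).smul_eq_zero.mp h4
  · obtain ⟨U, hyU, m, rfl⟩ := exists_germM_eq _ y t
    obtain ⟨j, k, s, q, hs, hq, hk, hsy, hval⟩ := exists_local_frac' n
      (show GrMod.sect ℬ 𝒩 n (op U) from m) (show ProjectiveSpectrum ℬ from y) hyU
    refine ⟨(hunit hs hsy).unit⁻¹.val • G' q, ?_⟩
    let W : (Proj ℬ).Opens := U ⊓ Proj.map ψ hψ ⁻¹ᵁ Proj.basicOpen 𝒜 g ⊓ Proj.basicOpen ℬ s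
    have hyW : y ∈ W := ⟨⟨hyU, hy⟩, (Proj.mem_basicOpen ℬ s y).mpr hsy⟩
    have key : QCoh.rres (show W ≤ Proj.map ψ hψ ⁻¹ᵁ Proj.basicOpen 𝒜 g from fun _ h ↦ h.1.2)
          (β ψ hψ hg s) • QCoh.res (GrMod.tilde ℬ 𝒩 n) (show W ≤ U from fun _ h ↦ h.1.1) m =
        QCoh.res (GrMod.tilde ℬ 𝒩 n)
          (show W ≤ Proj.map ψ hψ ⁻¹ᵁ Proj.basicOpen 𝒜 g from fun _ h ↦ h.1.2)
          (dehomMod (ψ.map_mem hg) (preimage_le ψ hψ) (ℳ := 𝒩) n q) := by
      refine sect_ext fun z hz ↦ ?_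
      refine (GrMod.coe_smul_val n z _ _).trans ?_
      have hzs := (Proj.mem_basicOpen ℬ s z).mp hz.2
      obtain ⟨_, e⟩ := hval z hzs
      refine (congrArg₂ (· • ·) (funVal_dehom _ _ hs z hz.1.2) e).trans ?_
      refine Eq.trans ?_ (val_dehomMod _ _ n hq z hz.1.2).symm
      rw [GrModLib.mk, GrModLib.mk, LocalizedModule.mk_smul_mk]
      refine LocalizedModule.mk_eq.mpr ⟨1, ?_⟩
      simp only [one_smul, Submonoid.smul_def, Submonoid.coe_mul, smul_smul]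
      congr 1
      rw [show (-n).toNat + k = n.toNat + j by omega, pow_add]
      ring
    have h1 := congrArg (germM (GrMod.tilde ℬ 𝒩 n) W y hyW) key
    rw [germM_smul, (Proj ℬ).presheaf.germ_res_apply] at h1
    rw [map_smul, hφ]
    refine (congrArg ((hunit hs hsy).unit⁻¹.val • ·)
      (((GrMod.tilde ℬ 𝒩 n).presheaf.germ_res_apply _ y hyW _).symm.trans h1.symm)).trans ?_
    rw [smul_smul]
    refine (congrArg (· • _) (hunit hs hsy).val_inv_mul).trans ((one_smul _ _).trans ?_)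
    exact (GrMod.tilde ℬ 𝒩 n).presheaf.germ_res_apply _ y hyW _

end Stalk

/-- `ν : Φ^*(M(n)~) → N(n)~` is an isomorphism when `A` is generated in degree one. -/
theorem isIso_adjunct (hgen : (𝒜₊).toIdeal = Ideal.span (𝒜 1 : Set A))
    (hbc : ∀ (Q : Type u) [AddCommGroup Q] [Module B Q] (w : M →ₛₗ[ψ.toRingHom] Q),
      ∃! h : N →ₗ[B] Q, ∀ m : M, h (v m) = w m) : IsIso (adjunct ψ hψ ℳ 𝒩 v hv n) := by
  refine Omega.Stalks.isIso_of_stalk fun y ↦ ?_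
  let x : ProjectiveSpectrum 𝒜 := ProjectiveSpectrum.comap ψ hψ (show ProjectiveSpectrum ℬ from y)
  obtain ⟨g, hg, hgx⟩ : ∃ g ∈ 𝒜 1, g ∉ x.asHomogeneousIdeal := by
    by_contra! h
    refine x.not_irrelevant_le ?_
    change (𝒜₊).toIdeal ≤ x.asHomogeneousIdeal.toIdeal
    rw [hgen]
    exact Ideal.span_le.mpr h
  exact bijective_stalkLin hg hbc y ((Proj.mem_basicOpen 𝒜 g x).mpr hgx)

end Groth.Agent.GrBC
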