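import Groth.Agent.RelTildeLib.Frame
import Groth.Agent.PullStalk.Exact

/-!
Stalks of a twisting sheaf seen through a chart: fractions with denominators powers of one element.
-/

universe u

open DirectSum CategoryTheory AlgebraicGeometry TopologicalSpace Opposite

noncomputable section

namespace Groth.Agent.GrBC.Chart

open GrModLib PullStalk.Sky RelTildeLib

variable {A σ : Type u} [CommRing A] [SetLike σ A] [AddSubgroupClass σ A] {𝒜 : ℕ → σ} [GradedRing 𝒜]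
  {X : Scheme.{u}} (e : Proj 𝒜 ⟶ X) {n : ℤ} {L : X.Modules}
  (lam : L ⟶ (Scheme.Modules.pushforward e).obj (GrTwist.twist 𝒜 n))

/-- The value on the chart of a function. -/
abbrev cf {W : X.Opens} (c : Γ(X, W)) (y : ProjectiveSpectrum 𝒜) (hy : e.base y ∈ W) :
    GrTwist.Loc 𝒜 y :=
  funVal (e.app W c) y hy

/-- The value on the chart of a section. -/
abbrev cv {W : X.Opens} (s : Γ(L, W)) (y : ProjectiveSpectrum 𝒜) (hy : e.base y ∈ W) :
    GrTwist.Loc 𝒜 y :=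
  GrTwist.val (V := e ⁻¹ᵁ W) (lam.app W s) ⟨y, hy⟩

lemma cv_res {W W' : X.Opens} (hle : W' ≤ W) (s : Γ(L, W)) (y : ProjectiveSpectrum 𝒜)
    (hy : e.base y ∈ W') : cv e lam (QCoh.res L hle s) y hy = cv e lam s y (hle hy) :=
  congrArg (fun t ↦ GrTwist.val (V := e ⁻¹ᵁ W') t ⟨y, hy⟩) (QCoh.app_res lam hle s)

lemma cf_res {W W' : X.Opens} (hle : W' ≤ W) (c : Γ(X, W)) (y : ProjectiveSpectrum 𝒜)
    (hy : e.base y ∈ W') : cf e (QCoh.rres hle c) y hy = cf e c y (hle hy) :=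
  congrArg (fun t ↦ funVal t y hy) (congr($(e.naturality (homOfLE hle).op).hom c))

lemma cv_smul {W : X.Opens} (c : Γ(X, W)) (s : Γ(L, W)) (y : ProjectiveSpectrum 𝒜)
    (hy : e.base y ∈ W) : cv e lam (c • s) y hy = cf e c y hy * cv e lam s y hy :=
  (congrArg (fun t ↦ GrTwist.val (V := e ⁻¹ᵁ W) t ⟨y, hy⟩)
    (Scheme.Modules.Hom.app_smul lam c s)).trans (val_smulT _ _ _)

lemma cv_add {W : X.Opens} (s t : Γ(L, W)) (y : ProjectiveSpectrum 𝒜)
    (hy : e.base y ∈ W) : cv e lam (s + t) y hy = cv e lam s y hy + cv e lam t y hy :=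
  congrArg (fun t ↦ GrTwist.val (V := e ⁻¹ᵁ W) t ⟨y, hy⟩) (map_add (lam.app W).hom s t)

lemma cv_zero {W : X.Opens} (y : ProjectiveSpectrum 𝒜) (hy : e.base y ∈ W) :
    cv e lam (0 : Γ(L, W)) y hy = 0 :=
  congrArg (fun t ↦ GrTwist.val (V := e ⁻¹ᵁ W) t ⟨y, hy⟩) (map_zero (lam.app W).hom)

lemma cf_mul {W : X.Opens} (c c' : Γ(X, W)) (y : ProjectiveSpectrum 𝒜) (hy : e.base y ∈ W) :
    cf e (c * c') y hy = cf e c y hy * cf e c' y hy :=
  (congrArg (fun t ↦ funVal t y hy) (map_mul (e.app W).hom c c')).trans (funVal_mul _ _ y hy)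

lemma cf_one {W : X.Opens} (y : ProjectiveSpectrum 𝒜) (hy : e.base y ∈ W) :
    cf e (1 : Γ(X, W)) y hy = 1 :=
  (congrArg (fun t ↦ funVal t y hy) (map_one (e.app W).hom)).trans (funVal_one y hy)

variable [IsOpenImmersion e]

/-- The open cut out by `f` in a chart. -/
abbrev WD (f : A) : X.Opens := e ''ᵁ Proj.basicOpen 𝒜 f

lemma nin_WD {f : A} {y : ProjectiveSpectrum 𝒜} (hy : e.base y ∈ WD e f) :
    f ∉ y.asHomogeneousIdeal := by
  obtain ⟨z, hz, hzy⟩ := hy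
  exact e.isOpenEmbedding.injective hzy ▸ (Proj.mem_basicOpen 𝒜 f z).mp hz

lemma mem_WD {f : A} {y : ProjectiveSpectrum 𝒜} (hy : f ∉ y.asHomogeneousIdeal) :
    e.base y ∈ WD e f := ⟨y, (Proj.mem_basicOpen 𝒜 f y).mpr hy, rfl⟩

lemma app_bijective {W : X.Opens} (hW : W ≤ e.opensRange) : Function.Bijective (e.app W) := by
  have : IsIso (e.app W) := Scheme.Hom.isIso_app _ W hW
  exact ConcreteCategory.bijective_of_isIso _

lemma fun_ext {W : X.Opens} (hW : W ≤ e.opensRange) {c c' : Γ(X, W)}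
    (h : ∀ y hy, cf e c y hy = cf e c' y hy) : c = c' :=
  (app_bijective e hW).1 (funVal_ext h)

lemma exists_fun {W : X.Opens} (hW : W ≤ e.opensRange) {k : ℕ} {a b : A} (ha : a ∈ 𝒜 k)
    (hb : b ∈ 𝒜 k) (hnin : ∀ y : ProjectiveSpectrum 𝒜, e.base y ∈ W → b ∉ y.asHomogeneousIdeal) :
    ∃ c : Γ(X, W), ∀ y hy, cf e c y hy = Localization.mk a ⟨b, hnin y hy⟩ := by
  have hle : e ⁻¹ᵁ W ≤ Proj.basicOpen 𝒜 b := fun y hy ↦ (Proj.mem_basicOpen 𝒜 b y).mpr (hnin y hy)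
  obtain ⟨c, hc⟩ := (app_bijective e hW).2 (ratFun ha hb hle)
  exact ⟨c, fun y hy ↦ (congrArg (fun t ↦ funVal t y hy) hc).trans (funVal_ratFun ha hb hle y hy)⟩

variable (hlam : ∀ W : X.Opens, W ≤ e.opensRange → Function.Bijective (lam.app W))

include hlam in
lemma sec_ext {W : X.Opens} (hW : W ≤ e.opensRange) {s t : Γ(L, W)}
    (h : ∀ y hy, cv e lam s y hy = cv e lam t y hy) : s = t :=
  (hlam W hW).1 (twist_ext (V := e ⁻¹ᵁ W) fun y ↦ h y.1 y.2)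

include hlam in
lemma exists_sec {W : X.Opens} (hW : W ≤ e.opensRange) {i j : ℕ} {a b : A} (ha : a ∈ 𝒜 i)
    (hb : b ∈ 𝒜 j) (h : (i : ℤ) = j + n)
    (hnin : ∀ y : ProjectiveSpectrum 𝒜, e.base y ∈ W → b ∉ y.asHomogeneousIdeal) :
    ∃ s : Γ(L, W), ∀ y hy, cv e lam s y hy = Localization.mk a ⟨b, hnin y hy⟩ := by
  obtain ⟨s, hs⟩ := (hlam W hW).2 (fracT (V := e ⁻¹ᵁ W) ha hb h hnin)
  exact ⟨s, fun y hy ↦ congrArg (fun t ↦ GrTwist.val (V := e ⁻¹ᵁ W) t ⟨y, hy⟩) hs⟩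

variable {f : A} {d : ℕ} (hf : f ∈ 𝒜 d)

lemma WD_le : WD e f ≤ e.opensRange := e.image_le_opensRange _

/-- The function `a / f ^ q`. -/
def funD (q : ℕ) (a : 𝒜 (q * d)) : Γ(X, WD e f) :=
  (exists_fun e (WD_le e) a.2 (pow_mem_deg' hf q) fun _ hy ↦ pow_nin (nin_WD e hy) q).choose

lemma cf_funD (q : ℕ) (a : 𝒜 (q * d)) (y : ProjectiveSpectrum 𝒜) (hy : e.base y ∈ WD e f) :
    cf e (funD e hf q a) y hy = Localization.mk (a : A) ⟨f ^ q, pow_nin (nin_WD e hy) q⟩ :=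
  (exists_fun e (WD_le e) a.2 (pow_mem_deg' hf q) fun _ hy ↦ pow_nin (nin_WD e hy) q).choose_spec y hy

variable {lam}

/-- The section `a / f ^ p`. -/
def secD (p k : ℕ) (h : (k : ℤ) = ((p * d : ℕ) : ℤ) + n) (a : 𝒜 k) : Γ(L, WD e f) :=
  (exists_sec e lam hlam (WD_le e) a.2 (pow_mem_deg' hf p) h
    fun _ hy ↦ pow_nin (nin_WD e hy) p).choose

lemma cv_secD (p k : ℕ) (h : (k : ℤ) = ((p * d : ℕ) : ℤ) + n) (a : 𝒜 k) (y : ProjectiveSpectrum 𝒜)
    (hy : e.base y ∈ WD e f) :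
    cv e lam (secD e hlam hf p k h a) y hy =
      Localization.mk (a : A) ⟨f ^ p, pow_nin (nin_WD e hy) p⟩ :=
  (exists_sec e lam hlam (WD_le e) a.2 (pow_mem_deg' hf p) h
    fun _ hy ↦ pow_nin (nin_WD e hy) p).choose_spec y hy

lemma funD_mul {q q' q'' : ℕ} (hq : q'' = q + q') (a : 𝒜 (q * d)) (b : 𝒜 (q' * d))
    (c : 𝒜 (q'' * d)) (hc : (c : A) = (a : A) * (b : A)) :
    funD e hf q'' c = funD e hf q a * funD e hf q' b := fun_ext e (WD_le e) fun y hy ↦ by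
  rw [cf_mul, cf_funD, cf_funD, cf_funD, Localization.mk_mul, hc]
  exact congrArg₂ Localization.mk rfl (Subtype.ext (by rw [hq]; exact pow_add f q q'))

lemma funD_one {q : ℕ} (a : 𝒜 (q * d)) (ha : (a : A) = f ^ q) : funD e hf q a = 1 :=
  fun_ext e (WD_le e) fun y hy ↦ by
    rw [cf_one, cf_funD, ha]
    exact Localization.mk_self (⟨f ^ q, pow_nin (nin_WD e hy) q⟩ :
      y.asHomogeneousIdeal.toIdeal.primeCompl)

lemma funD_smul_secD {q p p' k k' : ℕ} (hp : p' = q + p) (h : (k : ℤ) = ((p * d : ℕ) : ℤ) + n)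
    (h' : (k' : ℤ) = ((p' * d : ℕ) : ℤ) + n) (c : 𝒜 (q * d)) (a : 𝒜 k) (b : 𝒜 k')
    (hb : (b : A) = (c : A) * (a : A)) :
    funD e hf q c • secD e hlam hf p k h a = secD e hlam hf p' k' h' b :=
  sec_ext e lam hlam (WD_le e) fun y hy ↦ by
    rw [cv_smul, cf_funD, cv_secD, cv_secD, Localization.mk_mul, hb]
    exact congrArg₂ Localization.mk rfl (Subtype.ext (by rw [hp]; exact (pow_add f q p).symm))

lemma secD_add {p k : ℕ} (h : (k : ℤ) = ((p * d : ℕ) : ℤ) + n) (a b : 𝒜 k) :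
    secD e hlam hf p k h (a + b) = secD e hlam hf p k h a + secD e hlam hf p k h b :=
  sec_ext e lam hlam (WD_le e) fun y hy ↦ by
    rw [cv_add, cv_secD, cv_secD, cv_secD]
    exact (Localization.add_mk_self _ _ _).symm

lemma secD_zero {p k : ℕ} (h : (k : ℤ) = ((p * d : ℕ) : ℤ) + n) :
    secD e hlam hf p k h 0 = 0 :=
  sec_ext e lam hlam (WD_le e) fun y hy ↦ by
    rw [cv_zero, cv_secD]
    exact Localization.mk_zero _

lemma funD_add (q : ℕ) (a b : 𝒜 (q * d)) :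
    funD e hf q (a + b) = funD e hf q a + funD e hf q b :=
  fun_ext e (WD_le e) fun y hy ↦ by
    refine Eq.trans ?_ ((congrArg (fun t ↦ funVal t y hy) (map_add (e.app _).hom _ _)).trans
      (HomogeneousLocalization.val_add _ _)).symm
    refine (cf_funD e hf q _ y hy).trans ?_
    refine Eq.trans ?_ (congrArg₂ (· + ·) (cf_funD e hf q a y hy) (cf_funD e hf q b y hy)).symm
    exact (Localization.add_mk_self _ _ _).symm

lemma funD_zero (q : ℕ) : funD e hf q 0 = 0 :=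
  fun_ext e (WD_le e) fun y hy ↦ by
    refine (cf_funD e hf q _ y hy).trans ?_
    refine Eq.trans ?_ ((congrArg (fun t ↦ funVal t y hy) (map_zero (e.app _).hom)).trans
      HomogeneousLocalization.val_zero).symm
    exact Localization.mk_zero _

section Stalk

variable {x : X} (hy : x ∈ WD e f)

/-- The germ of `a / f ^ q`. -/
def gam (q : ℕ) (a : 𝒜 (q * d)) : X.presheaf.stalk x :=
  X.presheaf.germ (WD e f) _ hy (funD e hf q a)

/-- The germ of `a / f ^ p`. -/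
def sig (p k : ℕ) (h : (k : ℤ) = ((p * d : ℕ) : ℤ) + n) : 𝒜 k →+ L.presheaf.stalk x where
  toFun a := germM L (WD e f) _ hy (secD e hlam hf p k h a)
  map_zero' := by
    rw [secD_zero]
    exact map_zero (L.presheaf.germ (WD e f) x hy).hom
  map_add' a b := by
    rw [secD_add]
    exact map_add (L.presheaf.germ (WD e f) x hy).hom _ _

lemma gam_mul {q q' q'' : ℕ} (hq : q'' = q + q') (a : 𝒜 (q * d)) (b : 𝒜 (q' * d))
    (c : 𝒜 (q'' * d)) (hc : (c : A) = (a : A) * (b : A)) :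
    gam e hf hy q'' c = gam e hf hy q a * gam e hf hy q' b := by
  rw [gam, gam, gam, funD_mul e hf hq a b c hc, map_mul]

lemma gam_add (q : ℕ) (a b : 𝒜 (q * d)) :
    gam e hf hy q (a + b) = gam e hf hy q a + gam e hf hy q b := by
  rw [gam, gam, gam, funD_add, map_add]

lemma gam_zero (q : ℕ) : gam e hf hy q 0 = 0 := by rw [gam, funD_zero, map_zero]

lemma gam_one {q : ℕ} (a : 𝒜 (q * d)) (ha : (a : A) = f ^ q) : gam e hf hy q a = 1 := by
  rw [gam, funD_one e hf a ha, map_one]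

lemma gam_smul_sig {q p p' k k' : ℕ} (hp : p' = q + p) (h : (k : ℤ) = ((p * d : ℕ) : ℤ) + n)
    (h' : (k' : ℤ) = ((p' * d : ℕ) : ℤ) + n) (c : 𝒜 (q * d)) (a : 𝒜 k) (b : 𝒜 k')
    (hb : (b : A) = (c : A) * (a : A)) :
    gam e hf hy q c • sig e hlam hf hy p k h a = sig e hlam hf hy p' k' h' b :=
  (germM_smul L (WD e f) _ hy _ _).symm.trans
    (congrArg (germM L (WD e f) _ hy) (funD_smul_secD e hlam hf hp h h' c a b hb))

include hy in
lemma isUnit_gam {y : ProjectiveSpectrum 𝒜} (hxy : e.base y = x) {q : ℕ} (a : 𝒜 (q * d))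
    (ha : (a : A) ∉ y.asHomogeneousIdeal) : IsUnit (gam e hf hy q a) := by
  subst hxy
  refine (X.mem_basicOpen (funD e hf q a) _ hy).mp ?_
  change y ∈ e ⁻¹ᵁ X.basicOpen (funD e hf q a)
  rw [Scheme.preimage_basicOpen]
  have hle : e ⁻¹ᵁ WD e f ≤ Proj.basicOpen 𝒜 (f ^ q) := fun z hz ↦
    (Proj.mem_basicOpen 𝒜 _ z).mpr (pow_nin (nin_WD e hz) q)
  have : e.app (WD e f) (funD e hf q a) = ratFun a.2 (pow_mem_deg' hf q) hle :=
    funVal_ext fun z hz ↦ (cf_funD e hf q a z hz).trans (funVal_ratFun a.2 (pow_mem_deg' hf q) hle z hz).symm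
  rw [this, basicOpen_ratFun]
  exact ⟨hy, (Proj.mem_basicOpen 𝒜 _ y).mpr ha⟩

/-- Germs of functions are quotients of `a / f ^ q`. -/
theorem exists_gam_eq {y : ProjectiveSpectrum 𝒜} (hxy : e.base y = x) (hd : 0 < d) (c : X.presheaf.stalk x) :
    ∃ (q : ℕ) (s a : 𝒜 (q * d)), (s : A) ∉ y.asHomogeneousIdeal ∧
      gam e hf hy q s * c = gam e hf hy q a := by
  subst hxy
  obtain ⟨W, hyW, c', rfl⟩ := X.presheaf.exists_germ_eq (x := e.base y) c
  obtain ⟨V, hyV, iV, j, ⟨a, ha⟩, ⟨s, hs⟩, hnin, w⟩ :=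
    (show GrTwist.O (𝒜 := 𝒜) (op (e ⁻¹ᵁ W)) from e.app W c').2 ⟨y, hyW⟩
  obtain ⟨r, rfl⟩ : ∃ r, d = r + 1 := ⟨d - 1, by omega⟩
  have hs1 : s ^ r * s ∈ 𝒜 (j * (r + 1)) := by
    rw [← pow_succ, mul_comm]; exact pow_mem_deg' hs _
  have ha1 : s ^ r * a ∈ 𝒜 (j * (r + 1)) := by
    have := SetLike.mul_mem_graded (pow_mem_deg' hs r) ha
    rwa [show r * j + j = j * (r + 1) by ring] at this
  refine ⟨j, ⟨_, hs1⟩, ⟨_, ha1⟩, fun h ↦ (y.isPrime.mem_or_mem h).elim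
    (pow_nin (hnin ⟨y, hyV⟩) r) (hnin ⟨y, hyV⟩), ?_⟩
  let W' : X.Opens := W ⊓ WD e f ⊓ e ''ᵁ V
  have hyW' : e.base y ∈ W' := ⟨⟨hyW, hy⟩, y, hyV, rfl⟩
  have key : QCoh.rres (show W' ≤ WD e f from fun _ h ↦ h.1.2) (funD e hf j ⟨_, hs1⟩) *
        QCoh.rres (show W' ≤ W from fun _ h ↦ h.1.1) c' =
      QCoh.rres (show W' ≤ WD e f from fun _ h ↦ h.1.2) (funD e hf j ⟨_, ha1⟩) := by
    refine fun_ext e (W := W') (fun z hz ↦ WD_le e hz.1.2) fun z hz ↦ ?_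
    obtain ⟨z', hz', hzz⟩ := hz.2
    obtain rfl : z' = z := e.isOpenEmbedding.injective hzz
    rw [cf_mul, cf_res, cf_res, cf_res, cf_funD, cf_funD]
    have := z'.isPrime
    refine (congrArg (_ * ·) ((congrArg HomogeneousLocalization.val (w ⟨z', hz'⟩)).trans
      (HomogeneousLocalization.val_mk _))).trans ?_
    rw [Localization.mk_mul, Localization.mk_eq_mk_iff, Localization.r_iff_exists]
    exact ⟨1, by simp only [Submonoid.coe_mul, OneMemClass.coe_one]; ring⟩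
  have h1 := congrArg (X.presheaf.germ W' _ hyW') key
  rw [map_mul, X.presheaf.germ_res_apply, X.presheaf.germ_res_apply, X.presheaf.germ_res_apply] at h1
  exact h1

/-- Germs of sections are quotients of `a / f ^ p`. -/
theorem exists_sig_eq {y : ProjectiveSpectrum 𝒜} (hxy : e.base y = x) (hd : 0 < d)
    (t : L.presheaf.stalk x) :
    ∃ (q : ℕ) (s : 𝒜 (q * d)) (p k : ℕ) (h : (k : ℤ) = ((p * d : ℕ) : ℤ) + n) (a : 𝒜 k),
      (s : A) ∉ y.asHomogeneousIdeal ∧ gam e hf hy q s • t = sig e hlam hf hy p k h a := by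
  subst hxy
  obtain ⟨W, hyW, m, rfl⟩ := exists_germM_eq L (e.base y) t
  obtain ⟨V, hle, hyV, i, j, ⟨a, ha⟩, ⟨s, hs⟩, hnin, hdeg, w⟩ :=
    exists_fracT (V := e ⁻¹ᵁ W) (lam.app W m) ⟨y, hyW⟩
  obtain ⟨r, rfl⟩ : ∃ r, d = r + 1 := ⟨d - 1, by omega⟩
  have hs1 : s ^ r * s ∈ 𝒜 (j * (r + 1)) := by
    rw [← pow_succ, mul_comm]; exact pow_mem_deg' hs _
  have hsy : s ^ r * s ∉ y.asHomogeneousIdeal := fun h ↦ (y.isPrime.mem_or_mem h).elim
    (pow_nin (hnin ⟨y, hyV⟩) r) (hnin ⟨y, hyV⟩)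
  let W' : X.Opens := W ⊓ WD e f ⊓ e ''ᵁ V
  have hyW' : e.base y ∈ W' := ⟨⟨hyW, hy⟩, y, hyV, rfl⟩
  have close : ∀ (p k : ℕ) (h : (k : ℤ) = ((p * (r + 1) : ℕ) : ℤ) + n) (b : 𝒜 k),
      (∀ z : ProjectiveSpectrum 𝒜, ∀ hz : f ∉ z.asHomogeneousIdeal, ∀ hz' : s ∉ z.asHomogeneousIdeal,
        Localization.mk (s ^ r * s) (⟨f ^ j, pow_nin hz j⟩ : z.asHomogeneousIdeal.toIdeal.primeCompl) *
          Localization.mk a ⟨s, hz'⟩ = Localization.mk (b : A) ⟨f ^ p, pow_nin hz p⟩) →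
      gam e hf hy j ⟨_, hs1⟩ • germM L W _ hyW m = sig e hlam hf hy p k h b := by
    intro p k h b hb
    have key : QCoh.rres (show W' ≤ WD e f from fun _ h ↦ h.1.2) (funD e hf j ⟨_, hs1⟩) •
          QCoh.res L (show W' ≤ W from fun _ h ↦ h.1.1) m =
        QCoh.res L (show W' ≤ WD e f from fun _ h ↦ h.1.2) (secD e hlam hf p k h b) := by
      refine sec_ext e lam hlam (W := W') (fun z hz ↦ WD_le e hz.1.2) fun z hz ↦ ?_
      obtain ⟨z', hz', hzz⟩ := hz.2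
      obtain rfl : z' = z := e.isOpenEmbedding.injective hzz
      rw [cv_smul, cf_res, cv_res, cv_res, cf_funD, cv_secD]
      exact (congrArg (_ * ·) (w ⟨z', hz'⟩)).trans (hb z' (nin_WD e hz.1.2) (hnin ⟨z', hz'⟩))
    have h1 := congrArg (germM L W' _ hyW') key
    rw [germM_smul, X.presheaf.germ_res_apply] at h1
    refine Eq.trans ?_ (h1.trans (L.presheaf.germ_res_apply _ _ hyW' _))
    exact congrArg (_ • ·) (L.presheaf.germ_res_apply _ _ hyW' _).symm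
  rcases hdeg with hdeg | ha0
  · have hb : s ^ r * a ∈ 𝒜 (r * j + i) := SetLike.mul_mem_graded (pow_mem_deg' hs r) ha
    refine ⟨j, ⟨_, hs1⟩, j, r * j + i, by push_cast; rw [hdeg]; ring, ⟨_, hb⟩, hsy,
      close _ _ _ _ fun z hz hz' ↦ ?_⟩
    rw [Localization.mk_mul, Localization.mk_eq_mk_iff, Localization.r_iff_exists]
    exact ⟨1, by simp only [Submonoid.coe_mul, OneMemClass.coe_one]; ring⟩
  · obtain ⟨p, k, hk⟩ : ∃ p k : ℕ, (k : ℤ) = ((p * (r + 1) : ℕ) : ℤ) + n :=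
      ⟨(-n).toNat, ((((-n).toNat * (r + 1) : ℕ) : ℤ) + n).toNat, by
        rw [Int.toNat_of_nonneg]; push_cast; nlinarith [Int.self_le_toNat (-n)]⟩
    refine ⟨j, ⟨_, hs1⟩, p, k, hk, 0, hsy, close _ _ _ _ fun z hz hz' ↦ ?_⟩
    rw [show a = 0 from ha0, Localization.mk_zero, mul_zero, ZeroMemClass.coe_zero,
      Localization.mk_zero]

/-- A vanishing germ is killed by a homogeneous element outside the point. -/
theorem exists_mul_eq_zero {y : ProjectiveSpectrum 𝒜} (hxy : e.base y = x) (hd : 0 < d) {p k : ℕ} (h : (k : ℤ) = ((p * d : ℕ) : ℤ) + n) (a : 𝒜 k)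
    (h0 : sig e hlam hf hy p k h a = 0) :
    ∃ (q : ℕ) (u : 𝒜 (q * d)), (u : A) ∉ y.asHomogeneousIdeal ∧ (u : A) * (a : A) = 0 := by
  subst hxy
  obtain ⟨V, hyV, i₁, i₂, h1⟩ := L.presheaf.germ_eq (e.base y) hy hy (secD e hlam hf p k h a) 0
    (h0.trans (map_zero _).symm)
  rw [map_zero] at h1
  have h2 : cv e lam (secD e hlam hf p k h a) y hy = 0 := by
    have := congrArg (fun t : Γ(L, V) ↦ cv e lam t y hyV) h1
    exact (cv_res e lam i₁.le (secD e hlam hf p k h a) y hyV).symm.trans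
      (this.trans (cv_zero e lam y hyV))
  rw [cv_secD, ← Localization.mk_zero ⟨f ^ p, pow_nin (nin_WD e hy) p⟩,
    Localization.mk_eq_mk_iff, Localization.r_iff_exists] at h2
  obtain ⟨c, hc⟩ := h2
  have hca : ((c : A) * f ^ p) * (a : A) = 0 := by
    rw [mul_assoc]
    simpa using hc
  obtain ⟨j, c', hc', hc'y, hc'a⟩ := exists_hom_smul_eq_zero (𝒜 := 𝒜) (ℳ := 𝒜) a.2
    (show (c : A) * f ^ p ∉ y.asHomogeneousIdeal from fun h ↦
      (y.isPrime.mem_or_mem h).elim c.2 (pow_nin (nin_WD e hy) p)) hca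
  refine ⟨j, ⟨c' ^ d, by rw [mul_comm]; exact pow_mem_deg' hc' d⟩, pow_nin hc'y d, ?_⟩
  obtain ⟨r, rfl⟩ : ∃ r, d = r + 1 := ⟨d - 1, by omega⟩
  rw [smul_eq_mul] at hc'a
  change c' ^ (r + 1) * (a : A) = 0
  rw [pow_succ, mul_assoc, hc'a, mul_zero]

end Stalk

end Groth.Agent.GrBC.Chart
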