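import Groth.Agent.GrModLib.QC

/-!
Dehomogenisation with respect to an element of degree one.
-/

universe u

open DirectSum CategoryTheory AlgebraicGeometry TopologicalSpace Opposite

noncomputable section

namespace Groth.Agent.GrBC

open GrModLib

variable {A σ : Type u} [CommRing A] [SetLike σ A] [AddSubgroupClass σ A] {𝒜 : ℕ → σ} [GradedRing 𝒜]
  {g : A} (hg : g ∈ 𝒜 1) {D : (Proj 𝒜).Opens} (hD : D ≤ Proj.basicOpen 𝒜 g)

lemma pow_mem_one (k : ℕ) (hg : g ∈ 𝒜 1) : g ^ k ∈ 𝒜 k := by simpa using SetLike.pow_mem_graded k hg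

lemma nin_of_le {x : ProjectiveSpectrum 𝒜} (hx : x ∈ D) (hD : D ≤ Proj.basicOpen 𝒜 g) :
    g ∉ x.asHomogeneousIdeal := (Proj.mem_basicOpen 𝒜 g x).mp (hD hx)

/-- `a ↦ a / g ^ i` on degree `i`. -/
def dehomI (i : ℕ) : 𝒜 i →+ Γ(Proj 𝒜, D) where
  toFun a := ratFun a.2 (pow_mem_one i hg)
    fun x hx ↦ (Proj.mem_basicOpen 𝒜 _ x).mpr (pow_nin (nin_of_le hx hD) i)
  map_zero' := funVal_ext fun x hx ↦ by
    refine (funVal_ratFun _ _ _ x hx).trans ?_
    exact (Localization.mk_zero _).trans HomogeneousLocalization.val_zero.symm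
  map_add' a b := funVal_ext fun x hx ↦ by
    refine Eq.trans ?_ (HomogeneousLocalization.val_add _ _).symm
    refine (funVal_ratFun _ _ _ x hx).trans ?_
    refine Eq.trans ?_ (congrArg₂ (· + ·) (funVal_ratFun _ _ _ x hx) (funVal_ratFun _ _ _ x hx)).symm
    exact (Localization.add_mk_self _ _ _).symm

lemma funVal_dehomI (i : ℕ) (a : 𝒜 i) (x : ProjectiveSpectrum 𝒜) (hx : x ∈ D) :
    funVal (dehomI hg hD i a) x hx =
      Localization.mk (a : A) ⟨g ^ i, pow_nin (nin_of_le hx hD) i⟩ :=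
  funVal_ratFun a.2 (pow_mem_one i hg)
    (fun x hx ↦ (Proj.mem_basicOpen 𝒜 _ x).mpr (pow_nin (nin_of_le hx hD) i)) x hx

lemma dehomI_one : dehomI hg hD 0 (GradedMonoid.GOne.one (A := fun k ↦ 𝒜 k)) = 1 := funVal_ext fun x hx ↦ by
  rw [funVal_dehomI, funVal_one, ← Localization.mk_one]
  exact congrArg₂ Localization.mk rfl (Subtype.ext (pow_zero g))

lemma dehomI_mul {i j : ℕ} (ai : 𝒜 i) (aj : 𝒜 j) :
    dehomI hg hD (i + j) (GradedMonoid.GMul.mul (A := fun k ↦ 𝒜 k) ai aj) = dehomI hg hD i ai * dehomI hg hD j aj :=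
  funVal_ext fun x hx ↦ by
    rw [funVal_mul, funVal_dehomI, funVal_dehomI, funVal_dehomI, Localization.mk_mul]
    exact congrArg₂ Localization.mk rfl (Subtype.ext (pow_add g i j))

/-- `a ↦ ∑ aᵢ / g ^ i`. -/
def dehom : A →+* Γ(Proj 𝒜, D) :=
  (DirectSum.toSemiring (dehomI hg hD) (dehomI_one hg hD) (dehomI_mul hg hD)).comp
    (DirectSum.decomposeRingEquiv 𝒜).toRingHom

lemma dehom_of_mem {i : ℕ} {a : A} (ha : a ∈ 𝒜 i) :
    dehom hg hD a = dehomI hg hD i ⟨a, ha⟩ := by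
  change DirectSum.toSemiring (dehomI hg hD) (dehomI_one hg hD) (dehomI_mul hg hD) (decompose 𝒜 a) = _
  rw [decompose_of_mem 𝒜 ha, DirectSum.toSemiring_of]

lemma funVal_dehom {i : ℕ} {a : A} (ha : a ∈ 𝒜 i) (x : ProjectiveSpectrum 𝒜) (hx : x ∈ D) :
    funVal (dehom hg hD a) x hx = Localization.mk a ⟨g ^ i, pow_nin (nin_of_le hx hD) i⟩ := by
  rw [dehom_of_mem hg hD ha, funVal_dehomI]

lemma dehom_self : dehom hg hD g = 1 := funVal_ext fun x hx ↦ by
  rw [funVal_dehom hg hD hg x hx, funVal_one]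
  exact (congrArg (Localization.mk g) (Subtype.ext (pow_one g))).trans
    (Localization.mk_self (⟨g, nin_of_le hx hD⟩ : x.asHomogeneousIdeal.toIdeal.primeCompl))

lemma dehom_self_pow (k : ℕ) : dehom hg hD (g ^ k) = 1 := by rw [map_pow, dehom_self, one_pow]

section Module

variable {M τ : Type u} [AddCommGroup M] [Module A M] [SetLike τ M] [AddSubgroupClass τ M]
  {ℳ : ℕ → τ} [DirectSum.Decomposition ℳ] [SetLike.GradedSMul 𝒜 ℳ] (n : ℤ)

/-- `m ↦ g ^ a • m / g ^ (b + i)` on degree `i`, where `n = a - b`. -/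
def dehomModI (i : ℕ) : ℳ i →+ Γ(GrMod.tilde 𝒜 ℳ n, D) where
  toFun m := show GrMod.sect 𝒜 ℳ n (op D) from
    fracSec (SetLike.GradedSMul.smul_mem (pow_mem_one n.toNat hg) m.2)
      (pow_mem_one ((-n).toNat + i) hg) n (by rw [vadd_eq_add]; push_cast; omega)
      fun x ↦ pow_nin (nin_of_le x.2 hD) _
  map_zero' := sect_ext fun x hx ↦ by
    change GrModLib.mk x (g ^ n.toNat • (0 : M)) (g ^ ((-n).toNat + i)) _ = 0
    rw [GrModLib.mk, smul_zero, LocalizedModule.zero_mk]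
  map_add' a b := sect_ext fun x hx ↦ by
    change GrModLib.mk x (g ^ n.toNat • ((a + b : ℳ i) : M)) (g ^ ((-n).toNat + i)) _ =
      GrModLib.mk x (g ^ n.toNat • (a : M)) (g ^ ((-n).toNat + i)) _ +
        GrModLib.mk x (g ^ n.toNat • (b : M)) (g ^ ((-n).toNat + i)) _
    refine Eq.trans ?_ (LocalizedModule.mk_add_mk (m1 := g ^ n.toNat • (a : M))).symm
    refine LocalizedModule.mk_eq.mpr ⟨1, ?_⟩
    simp only [one_smul, AddMemClass.coe_add, smul_add, Submonoid.smul_def, Submonoid.coe_mul, smul_smul, mul_assoc]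

/-- `m ↦ ∑ g ^ a • mᵢ / g ^ (b + i)`. -/
def dehomMod : M →+ Γ(GrMod.tilde 𝒜 ℳ n, D) :=
  (DirectSum.toAddMonoid (dehomModI hg hD (ℳ := ℳ) n)).comp
    (decomposeAddEquiv ℳ).toAddMonoidHom

lemma val_dehomMod {i : ℕ} {m : M} (hm : m ∈ ℳ i) (x : ProjectiveSpectrum 𝒜) (hx : x ∈ D) :
    GrMod.val (dehomMod hg hD (ℳ := ℳ) n m) ⟨x, hx⟩ =
      GrModLib.mk x (g ^ n.toNat • m) (g ^ ((-n).toNat + i)) (pow_nin (nin_of_le hx hD) _) := by
  have e : dehomMod hg hD (ℳ := ℳ) n m = dehomModI hg hD n i ⟨m, hm⟩ := by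
    change DirectSum.toAddMonoid _ (decompose ℳ m) = _
    rw [decompose_of_mem ℳ hm, DirectSum.toAddMonoid_of]
  exact congrArg (fun s ↦ GrMod.val s ⟨x, hx⟩) e

/-- The dehomogenisation is semilinear. -/
theorem dehomMod_smul (a : A) (m : M) :
    dehomMod hg hD (ℳ := ℳ) n (a • m) = dehom hg hD a • dehomMod hg hD (ℳ := ℳ) n m := by
  induction a using DirectSum.Decomposition.inductionOn 𝒜 with
  | zero => rw [zero_smul, map_zero, map_zero, zero_smul]
  | add a b ha hb => rw [add_smul, map_add, map_add, ha, hb, add_smul]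
  | @homogeneous j a =>
    induction m using DirectSum.Decomposition.inductionOn ℳ with
    | zero => rw [smul_zero, map_zero, smul_zero]
    | add m m' ha hb => rw [smul_add, map_add, map_add, ha, hb, smul_add]
    | @homogeneous i m =>
      refine sect_ext fun x hx ↦ ?_
      change GrMod.val _ ⟨x, hx⟩ = _
      rw [val_dehomMod hg hD n (SetLike.GradedSMul.smul_mem a.2 m.2) x hx]
      refine Eq.trans ?_ (GrMod.coe_smul_val n x _ _).symm
      refine Eq.trans ?_ (congrArg₂ (· • ·) (funVal_dehom hg hD a.2 x hx)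
        (val_dehomMod hg hD n m.2 x hx)).symm
      rw [GrModLib.mk, GrModLib.mk, LocalizedModule.mk_smul_mk]
      refine LocalizedModule.mk_eq.mpr ⟨1, ?_⟩
      simp only [one_smul, Submonoid.smul_def, Submonoid.coe_mul, smul_smul, vadd_eq_add]
      congr 1
      rw [pow_add, pow_add, pow_add]
      ring

end Module

end Groth.Agent.GrBC
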