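import Groth.Agent.GrBC.Chart
import Groth.Agent.LFFrame.Basic
import Groth.Agent.RelProjLib.AwayBaseChange

/-!
The inverse image of a twisting sheaf along a base change of the ground ring is the twisting sheaf.
-/

universe u

open DirectSum CategoryTheory AlgebraicGeometry TopologicalSpace Opposite
open scoped HomogeneousIdeal TensorProduct

noncomputable section

namespace Groth.Agent.GrBC

open GrModLib PullStalk.Sky PullStalk.Exact Chart

lemma coe_decompose_smul {C τ : Type u} [CommRing C] [SetLike τ C] [AddSubgroupClass τ C]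
    (𝒞 : ℕ → τ) [GradedRing 𝒞] {s : C} (hs : s ∈ 𝒞 0) (a : C) (k : ℕ) :
    (decompose 𝒞 (s * a) k : C) = s * decompose 𝒞 a k := by
  have h := RelProjLib.proj_mul_of_mem_zero hs a k
  simpa only [GradedRing.proj_apply] using h

variable {A σ : Type u} [CommRing A] [SetLike σ A] [AddSubgroupClass σ A] {𝒜 : ℕ → σ} [GradedRing 𝒜]
  {B σ' : Type u} [CommRing B] [SetLike σ' B] [AddSubgroupClass σ' B] {ℬ : ℕ → σ'} [GradedRing ℬ]
  {ψ : 𝒜 →+*ᵍ ℬ} {hψ : ℬ₊ ≤ (𝒜₊).map ψ}
  {X X' : Scheme.{u}} {g : X' ⟶ X} {e : Proj 𝒜 ⟶ X} [IsOpenImmersion e]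
  {e' : Proj ℬ ⟶ X'} [IsOpenImmersion e']
  {n : ℤ} {L : X.Modules} {L' : X'.Modules}
  {lam : L ⟶ (Scheme.Modules.pushforward e).obj (GrTwist.twist 𝒜 n)}
  {lam' : L' ⟶ (Scheme.Modules.pushforward e').obj (GrTwist.twist ℬ n)}
  (hlam : ∀ W : X.Opens, W ≤ e.opensRange → Function.Bijective (lam.app W))
  (hlam' : ∀ W : X'.Opens, W ≤ e'.opensRange → Function.Bijective (lam'.app W))
  (heq : e' ≫ g = Proj.map ψ hψ ≫ e)
  {f : A} {d : ℕ} (hf : f ∈ 𝒜 d)

omit [IsOpenImmersion e] [IsOpenImmersion e'] in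
include heq in
lemma base_map (y : ProjectiveSpectrum ℬ) :
    g.base (e'.base y) = e.base (ProjectiveSpectrum.comap ψ hψ y) := congr($(heq).base y)

include heq in
lemma WD_le_preimage : WD e' (ψ f) ≤ g ⁻¹ᵁ WD e f := by
  rintro _ ⟨y, hy, rfl⟩
  change g.base (e'.base y) ∈ WD e f
  rw [base_map heq]
  exact mem_WD e ((Proj.mem_basicOpen ℬ _ y).mp hy)

/-- A homogeneous element carried along `ψ`. -/
abbrev psiEl (φ : 𝒜 →+*ᵍ ℬ) {k : ℕ} (a : 𝒜 k) : ℬ k := ⟨φ (a : A), φ.map_mem a.2⟩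

lemma stalkMap_gam {x' : X'} (hx' : x' ∈ WD e' (ψ f)) (q : ℕ) (a : 𝒜 (q * d)) :
    g.stalkMap x' (gam e hf (WD_le_preimage heq hx') q a) =
      gam e' (ψ.map_mem hf) hx' q (psiEl ψ a) := by
  have h : QCoh.rres (WD_le_preimage heq) (g.app (WD e f) (funD e hf q a)) =
      funD e' (ψ.map_mem hf) q (psiEl ψ a) := by
    refine fun_ext e' (WD_le e') fun y hy ↦ ?_
    rw [cf_res, cf_funD]
    have h1 := congr($(Scheme.Hom.congr_app heq (WD e f)).hom (funD e hf q a))
    refine (congrArg (fun t ↦ funVal t y (WD_le_preimage heq hy)) h1).trans ?_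
    refine (HomogeneousLocalization.val_localRingHom _).trans ?_
    have hy2 : e.base (ProjectiveSpectrum.comap ψ hψ y) ∈ WD e f := by
      rw [← base_map heq]
      exact WD_le_preimage heq hy
    refine (congrArg (GrTwist.locMap ψ hψ y) (cf_funD e hf q a _ hy2)).trans ?_
    refine (GrTwist.locMap_mk ψ hψ y _ _).trans ?_
    exact congrArg (Localization.mk _) (Subtype.ext (map_pow ψ f q))
  rw [gam, gam, Scheme.Hom.germ_stalkMap_apply, ← h, X'.presheaf.germ_res_apply]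

variable (θ : L ⟶ (Scheme.Modules.pushforward g).obj L')
  (hθ : ∀ (W : X.Opens) (s : Γ(L, W)) (y : ProjectiveSpectrum ℬ) (hy : e'.base y ∈ g ⁻¹ᵁ W)
    (hy' : e.base (ProjectiveSpectrum.comap ψ hψ y) ∈ W),
    cv e' lam' (θ.app W s : Γ(L', g ⁻¹ᵁ W)) y hy = GrTwist.locMap ψ hψ y (cv e lam s _ hy'))

/-- The adjunct of `θ`. -/
abbrev adj : (Scheme.Modules.pullback g).obj L ⟶ L' :=
  ((Scheme.Modules.pullbackPushforwardAdjunction g).homEquiv _ _).symm θ

omit [IsOpenImmersion e] [IsOpenImmersion e'] in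
lemma adj_unitSec (U : X.Opens) (m : Γ(L, U)) :
    (adj θ).app (g ⁻¹ᵁ U) (LFFrame.unitSec g L U m) = θ.app U m :=
  congrArg (fun φ : L ⟶ (Scheme.Modules.pushforward g).obj L' => Scheme.Modules.Hom.app φ U m)
    (((Scheme.Modules.pullbackPushforwardAdjunction g).homEquiv_unit _ _ _).symm.trans
      (Equiv.apply_symm_apply _ _))

include hθ in
lemma stalkLin_sig {x' : X'} (hx' : x' ∈ WD e' (ψ f)) (p k : ℕ)
    (h : (k : ℤ) = ((p * d : ℕ) : ℤ) + n) (a : 𝒜 k) :
    stalkLin (adj θ) x' (PullStalk.Basic.unitStalkHom g L x'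
        (sig e hlam hf (WD_le_preimage heq hx') p k h a)) =
      sig e' hlam' (ψ.map_mem hf) hx' p k h (psiEl ψ a) := by
  have h1 : QCoh.res L' (WD_le_preimage heq) (θ.app (WD e f) (secD e hlam hf p k h a)) =
      secD e' hlam' (ψ.map_mem hf) p k h (psiEl ψ a) := by
    refine sec_ext e' lam' hlam' (WD_le e') fun y hy ↦ ?_
    have hy2 : e.base (ProjectiveSpectrum.comap ψ hψ y) ∈ WD e f := by
      rw [← base_map heq]
      exact WD_le_preimage heq hy
    rw [cv_res, hθ _ _ _ _ hy2, cv_secD, cv_secD, GrTwist.locMap_mk]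
    exact congrArg (Localization.mk _) (Subtype.ext (map_pow ψ f p))
  refine (congrArg (stalkLin (adj θ) x')
    (PullStalk.Basic.unitStalkHom_germ g L x' _ (WD_le_preimage heq hx') _)).trans ?_
  refine (stalkLin_germ _ _ x' _ _).trans ?_
  refine (congrArg (germM L' (g ⁻¹ᵁ WD e f) x' (WD_le_preimage heq hx')) (adj_unitSec θ _ _)).trans ?_
  refine (L'.presheaf.germ_res_apply (homOfLE (WD_le_preimage heq)) x' hx' _).symm.trans ?_
  exact congrArg (germM L' (WD e' (ψ f)) x' hx') h1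

variable {R R' : Type u} [CommRing R] [CommRing R'] (ρ : R →+* R') (s : R →+* A) (s' : R' →+* B)

include hlam hf in
/-- The universal property of the base change on one degree. -/
theorem exists_G (hs : ∀ r, s r ∈ 𝒜 0) (hs' : ∀ r, s' r ∈ ℬ 0)
    (H : IsPushout (CommRingCat.ofHom ρ) (CommRingCat.ofHom s) (CommRingCat.ofHom s')
      (CommRingCat.ofHom ψ.toRingHom))
    {x' : X'} (hx' : x' ∈ WD e' (ψ f)) (p k : ℕ) (h : (k : ℤ) = ((p * d : ℕ) : ℤ) + n) :
    ∃ G : ℬ k →+ ((Scheme.Modules.pullback g).obj L).presheaf.stalk x',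
      (∀ a : 𝒜 k, G (psiEl ψ a) = PullStalk.Basic.unitStalkHom g L x'
        (sig e hlam hf (WD_le_preimage heq hx') p k h a)) ∧
      ∀ (r : R') (c : ℬ (0 * d)) (x y : ℬ k), (c : B) = s' r → (y : B) = s' r * (x : B) →
        G y = gam e' (ψ.map_mem hf) hx' 0 c • G x := by
  let c₀ : R' → ℬ (0 * d) := fun r ↦ ⟨s' r, by rw [zero_mul]; exact hs' r⟩
  let τ : R' →+* X'.presheaf.stalk x' :=
    { toFun r := gam e' (ψ.map_mem hf) hx' 0 (c₀ r)
      map_one' := gam_one e' (ψ.map_mem hf) hx' _ (by simp [c₀])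
      map_mul' a b := gam_mul e' (ψ.map_mem hf) hx' (q := 0) (q' := 0) rfl _ _ _ (map_mul s' a b)
      map_zero' := by
        rw [gam, ← map_zero (X'.presheaf.germ (WD e' (ψ f)) x' hx').hom]
        refine congrArg _ (fun_ext e' (WD_le e') fun y hy ↦ ?_)
        rw [cf_funD, show ((c₀ 0 : ℬ (0 * d)) : B) = 0 from map_zero s', Localization.mk_zero]
        exact ((congrArg (fun t ↦ funVal t y hy) (map_zero (e'.app _).hom)).trans
          HomogeneousLocalization.val_zero).symm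
      map_add' a b := by
        rw [gam, gam, gam, ← map_add]
        refine congrArg _ (fun_ext e' (WD_le e') fun y hy ↦ ?_)
        refine (cf_funD e' _ 0 _ y hy).trans ?_
        refine Eq.trans ?_ ((congrArg (fun t ↦ funVal t y hy) (map_add (e'.app _).hom _ _)).trans
          (HomogeneousLocalization.val_add _ _)).symm
        refine Eq.trans ?_ (congrArg₂ (· + ·) (cf_funD e' _ 0 _ y hy) (cf_funD e' _ 0 _ y hy)).symm
        rw [show ((c₀ (a + b) : ℬ (0 * d)) : B) = s' a + s' b from map_add s' a b]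
        exact (Localization.add_mk_self _ _ _).symm }
  algebraize_only [ρ, s, s', ψ.toRingHom]
  let : Algebra R B := (s'.comp ρ).toAlgebra
  have : IsScalarTower R R' B := .of_algebraMap_eq' rfl
  have hw : ∀ r, s' (ρ r) = ψ (s r) := fun r => congr($(H.w).hom r)
  have : IsScalarTower R A B := .of_algebraMap_eq hw
  have hP : Algebra.IsPushout R R' A B := CommRingCat.isPushout_iff_isPushout.1 H
  let := Module.compHom (((Scheme.Modules.pullback g).obj L).presheaf.stalk x') τ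
  let := Module.compHom (((Scheme.Modules.pullback g).obj L).presheaf.stalk x') (τ.comp ρ)
  have : IsScalarTower R R' (((Scheme.Modules.pullback g).obj L).presheaf.stalk x') :=
    IsScalarTower.of_algebraMap_smul fun _ _ ↦ rfl
  let w : A →ₗ[R] ((Scheme.Modules.pullback g).obj L).presheaf.stalk x' :=
    { toFun a := PullStalk.Basic.unitStalkHom g L x'
        (sig e hlam hf (WD_le_preimage heq hx') p k h (decompose 𝒜 a k))
      map_add' a b := by rw [decompose_add, DirectSum.add_apply, map_add, map_add]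
      map_smul' r a := by
        change _ = τ (ρ r) • PullStalk.Basic.unitStalkHom g L x'
          (sig e hlam hf (WD_le_preimage heq hx') p k h (decompose 𝒜 a k))
        let cr : 𝒜 (0 * d) := ⟨s r, by rw [zero_mul]; exact hs r⟩
        have e1 : sig e hlam hf (WD_le_preimage heq hx') p k h (decompose 𝒜 (r • a) k) =
            gam e hf (WD_le_preimage heq hx') 0 cr •
              sig e hlam hf (WD_le_preimage heq hx') p k h (decompose 𝒜 a k) :=
          (gam_smul_sig e hlam hf _ (zero_add p).symm h h cr _ _ (coe_decompose_smul 𝒜 (hs r) a k)).symm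
        rw [e1, PullStalk.Basic.unitStalkHom_smul, stalkMap_gam heq hf hx' 0 cr]
        congr 1
        exact congrArg (gam e' (ψ.map_mem hf) hx' 0) (Subtype.ext (hw r).symm) }
  let E := Algebra.IsPushout.equiv R R' A B
  let G₀ : B →ₗ[R'] ((Scheme.Modules.pullback g).obj L).presheaf.stalk x' :=
    (w.liftBaseChange R').comp E.symm.toLinearMap
  refine ⟨G₀.toAddMonoidHom.comp (AddSubmonoidClass.subtype (ℬ k)), fun a ↦ ?_, fun r c x y hc hy ↦ ?_⟩
  · change w.liftBaseChange R' (E.symm (ψ (a : A))) = _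
    have e1 : E.symm (ψ (a : A)) = 1 ⊗ₜ (a : A) := by
      rw [AlgEquiv.symm_apply_eq, Algebra.IsPushout.equiv_tmul, map_one, one_mul]
      rfl
    rw [e1, LinearMap.liftBaseChange_tmul, one_smul]
    change PullStalk.Basic.unitStalkHom g L x' (sig e hlam hf _ p k h (decompose 𝒜 (a : A) k)) = _
    rw [decompose_coe, DirectSum.of_eq_same]
  · change G₀ (y : B) = _ • G₀ (x : B)
    rw [hy, show c = c₀ r from Subtype.ext hc]
    exact G₀.map_smul r (x : B)

lemma exists_sum_psi (hs' : ∀ r, s' r ∈ ℬ 0)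
    (H : IsPushout (CommRingCat.ofHom ρ) (CommRingCat.ofHom s) (CommRingCat.ofHom s')
      (CommRingCat.ofHom ψ.toRingHom)) (k : ℕ) (motive : ℬ k → Prop) (h0 : motive 0)
    (hadd : ∀ x y, motive x → motive y → motive (x + y))
    (hgen : ∀ (r : R') (a : 𝒜 k),
      motive ⟨s' r * ψ (a : A), by simpa using SetLike.mul_mem_graded (hs' r) (ψ.map_mem a.2)⟩)
    (x : ℬ k) : motive x := by
  algebraize_only [ρ, s, s', ψ.toRingHom]
  let : Algebra R B := (s'.comp ρ).toAlgebra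
  have : IsScalarTower R R' B := .of_algebraMap_eq' rfl
  have hw : ∀ r, s' (ρ r) = ψ (s r) := fun r => congr($(H.w).hom r)
  have : IsScalarTower R A B := .of_algebraMap_eq hw
  have hP : Algebra.IsPushout R R' A B := CommRingCat.isPushout_iff_isPushout.1 H
  suffices ∀ t : R' ⊗[R] A, motive (decompose ℬ (Algebra.IsPushout.equiv R R' A B t) k) by
    have h1 := this ((Algebra.IsPushout.equiv R R' A B).symm (x : B))
    rwa [AlgEquiv.apply_symm_apply, decompose_coe, DirectSum.of_eq_same] at h1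
  intro t
  induction t with
  | zero => rwa [map_zero, decompose_zero, DirectSum.zero_apply]
  | add a b ha hb => rw [map_add, decompose_add, DirectSum.add_apply]; exact hadd _ _ ha hb
  | tmul r a =>
    rw [Algebra.IsPushout.equiv_tmul]
    convert hgen r (decompose 𝒜 a k) using 1
    refine Subtype.ext ?_
    change (decompose ℬ (s' r * ψ a) k : B) = _
    refine (coe_decompose_smul ℬ (hs' r) (ψ a) k).trans ?_
    have h1 := RelProjLib.map_gproj ψ a k
    simp only [GradedRing.proj_apply] at h1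
    exact congrArg (s' r * ·) h1.symm


lemma exists_pk (hd : 0 < d) (n : ℤ) :
    ∃ p k : ℕ, (k : ℤ) = ((p * d : ℕ) : ℤ) + n :=
  ⟨(-n).toNat, ((((-n).toNat * d : ℕ) : ℤ) + n).toNat, by
    rw [Int.toNat_of_nonneg]
    have h1 : (1 : ℤ) ≤ d := by omega
    push_cast
    nlinarith [Int.self_le_toNat (-n), Int.natCast_nonneg (-n).toNat]⟩

include hlam hlam' heq hθ hf in
/-- The adjunct is bijective on the stalks over `D₊(ψ f)`. -/
theorem bijective_stalkLin (hd : 0 < d) (hs : ∀ r, s r ∈ 𝒜 0) (hs' : ∀ r, s' r ∈ ℬ 0)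
    (H : IsPushout (CommRingCat.ofHom ρ) (CommRingCat.ofHom s) (CommRingCat.ofHom s')
      (CommRingCat.ofHom ψ.toRingHom))
    (y : ProjectiveSpectrum ℬ) (hy : ψ f ∉ y.asHomogeneousIdeal) :
    Function.Bijective (stalkLin (adj θ) (e'.base y)) := by
  have hx' : e'.base y ∈ WD e' (ψ f) := mem_WD e' hy
  choose G hGa hGr using fun p k h ↦ exists_G hlam heq hf ρ s s' hs hs' H hx' p k h
  let cz : R' → ℬ (0 * d) := fun r ↦ ⟨s' r, by rw [zero_mul]; exact hs' r⟩
  let Γm := gam e' (ψ.map_mem hf) hx'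
  have hG0 : ∀ (p k : ℕ) h (r : R') (a : 𝒜 k) (b : ℬ k), (b : B) = s' r * ψ (a : A) →
      G p k h b = Γm 0 (cz r) • PullStalk.Basic.unitStalkHom g L _
        (sig e hlam hf (WD_le_preimage heq hx') p k h a) := fun p k h r a b hb ↦ by
    rw [← hGa p k h a]
    exact hGr p k h r _ _ _ rfl hb
  -- compatibility with products
  have hGmul : ∀ (q p p' k k' : ℕ) h h', p' = q + p → ∀ (c : ℬ (q * d)) (x : ℬ k) (b : ℬ k'),
      (b : B) = (c : B) * (x : B) → G p' k' h' b = Γm q c • G p k h x := by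
    intro q p p' k k' h h' hp
    have hk : k' = q * d + k := by
      have : (k' : ℤ) = ((q * d + k : ℕ) : ℤ) := by
        rw [hp] at h'; push_cast at h h' ⊢; linarith
      exact_mod_cast this
    subst hk
    intro c
    refine exists_sum_psi ρ s s' hs' H _
      (fun c ↦ ∀ (x : ℬ k) (b : ℬ (q * d + k)), (b : B) = (c : B) * (x : B) →
        G p' (q * d + k) h' b = Γm q c • G p k h x) ?_ ?_ ?_ c
    · intro x b hb
      rw [show b = 0 from Subtype.ext (by rw [hb, ZeroMemClass.coe_zero, zero_mul]; rfl), map_zero,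
        show Γm q 0 = 0 from gam_zero _ _ _ q, zero_smul]
    · intro c₁ c₂ ih₁ ih₂ x b hb
      rw [show b = ⟨_, SetLike.mul_mem_graded c₁.2 x.2⟩ + ⟨_, SetLike.mul_mem_graded c₂.2 x.2⟩ from
          Subtype.ext (by rw [hb, AddMemClass.coe_add, add_mul]; rfl), map_add,
        ih₁ x _ rfl, ih₂ x _ rfl, show Γm q (c₁ + c₂) = _ from gam_add _ _ _ q c₁ c₂, add_smul]
    · intro r a x
      refine exists_sum_psi ρ s s' hs' H _
        (fun x ↦ ∀ b : ℬ (q * d + k), (b : B) = _ * (x : B) → G p' _ h' b = _ • G p k h x) ?_ ?_ ?_ x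
      · intro b hb
        rw [show b = 0 from Subtype.ext (by rw [hb, ZeroMemClass.coe_zero, mul_zero]; rfl), map_zero,
          map_zero, smul_zero]
      · intro x₁ x₂ ih₁ ih₂ b hb
        have hc : s' r * ψ (a : A) ∈ ℬ (q * d) := by
          simpa using SetLike.mul_mem_graded (hs' r) (ψ.map_mem a.2)
        rw [show b = ⟨_, SetLike.mul_mem_graded hc x₁.2⟩ + ⟨_, SetLike.mul_mem_graded hc x₂.2⟩ from
            Subtype.ext (by rw [hb, AddMemClass.coe_add, mul_add]; rfl), map_add,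
          ih₁ _ rfl, ih₂ _ rfl, map_add, smul_add]
      · intro r' a' b hb
        rw [hG0 p' _ h' (r * r') ⟨_, SetLike.mul_mem_graded a.2 a'.2⟩ b
            (by rw [hb, map_mul]; change _ = _ * ψ ((a : A) * (a' : A)); rw [map_mul]; ring),
          hG0 p k h r' a' _ rfl,
          ← gam_smul_sig e hlam hf (WD_le_preimage heq hx') hp h h' a a' _ rfl,
          PullStalk.Basic.unitStalkHom_smul, stalkMap_gam heq hf hx' q a,
          show Γm 0 (cz (r * r')) = Γm 0 (cz r) * Γm 0 (cz r') from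
            gam_mul e' (ψ.map_mem hf) hx' (q := 0) (q' := 0) rfl _ _ _ (map_mul s' r r'),
          show Γm q _ = Γm 0 (cz r) * Γm q (psiEl ψ a) from
            gam_mul e' (ψ.map_mem hf) hx' (q := 0) (q' := q) (zero_add q).symm _ _ _ rfl]
        simp only [Γm, smul_smul]
        congr 1
        ring
  have hφ : ∀ p k h (x : ℬ k), stalkLin (adj θ) _ (G p k h x) =
      sig e' hlam' (ψ.map_mem hf) hx' p k h x := by
    intro p k h x
    refine exists_sum_psi ρ s s' hs' H k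
      (fun x ↦ stalkLin (adj θ) _ (G p k h x) = sig e' hlam' (ψ.map_mem hf) hx' p k h x) ?_ ?_ ?_ x
    · rw [map_zero, map_zero, map_zero]
    · intro x₁ x₂ ih₁ ih₂
      rw [map_add, map_add, map_add, ih₁, ih₂]
    · intro r a
      rw [hG0 p k h r a _ rfl, map_smul, stalkLin_sig hlam hlam' heq hf θ hθ hx' p k h a]
      exact gam_smul_sig e' hlam' _ _ (zero_add p).symm h h _ _ _ rfl
  let Rep := fun t : ((Scheme.Modules.pullback g).obj L).presheaf.stalk (e'.base y) ↦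
    ∃ (q : ℕ) (c : ℬ (q * d)) (p k : ℕ) (h : (k : ℤ) = ((p * d : ℕ) : ℤ) + n) (x : ℬ k),
      (c : B) ∉ y.asHomogeneousIdeal ∧ Γm q c • t = G p k h x
  have hrep : ∀ t, Rep t := by
    intro t
    let := (g.stalkMap (e'.base y)).hom.toAlgebra
    let := PullStalk.Basic.moduleOver g L (e'.base y)
    have : IsScalarTower (X.presheaf.stalk (g.base (e'.base y))) (X'.presheaf.stalk (e'.base y))
        (((Scheme.Modules.pullback g).obj L).presheaf.stalk (e'.base y)) :=
      IsScalarTower.of_algebraMap_smul fun _ _ => rfl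
    obtain ⟨p₀, k₀, h₀⟩ := exists_pk hd n
    refine (PullStalk.Basic.isBaseChange_unitStalk g L (e'.base y)).inductionOn t Rep
      ⟨0, ⟨1, by rw [zero_mul]; exact SetLike.GradedOne.one_mem⟩, p₀, k₀, h₀, 0,
        GrMod.one_nin y, by rw [smul_zero, map_zero]⟩ ?_ ?_ ?_
    · intro w
      obtain ⟨q, c, p, k, h, a, hc, hw⟩ := exists_sig_eq e hlam hf (WD_le_preimage heq hx')
        (base_map heq y).symm hd w
      refine ⟨q, psiEl ψ c, p, k, h, psiEl ψ a, hc, ?_⟩
      rw [hGa, ← hw, PullStalk.Basic.unitStalkHom_smul, stalkMap_gam heq hf hx' q c]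
      rfl
    · rintro c t ⟨q, s₁, p, k, h, x, hs₁, ht⟩
      obtain ⟨q₂, s₂, a₂, hs₂, hc⟩ := exists_gam_eq e' (ψ.map_mem hf) hx' rfl hd c
      refine ⟨q₂ + q, ⟨_, by rw [add_mul]; exact SetLike.mul_mem_graded s₂.2 s₁.2⟩, q₂ + p,
        q₂ * d + k, by push_cast at h ⊢; rw [h]; ring, ⟨_, SetLike.mul_mem_graded a₂.2 x.2⟩,
        fun h' ↦ (y.isPrime.mem_or_mem h').elim hs₂ hs₁, ?_⟩
      rw [hGmul q₂ p _ k _ h _ rfl a₂ x _ rfl,
        show Γm (q₂ + q) _ = Γm q₂ s₂ * Γm q s₁ from gam_mul _ _ _ rfl _ _ _ rfl, smul_smul,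
        mul_right_comm, hc, mul_smul, ht]
    · rintro t₁ t₂ ⟨q₁, s₁, p₁, k₁, h₁, x₁, hs₁, ht₁⟩ ⟨q₂, s₂, p₂, k₂, h₂, x₂, hs₂, ht₂⟩
      set c₁ : ℬ ((q₂ + (q₁ + p₂)) * d) := ⟨(s₂ : B) * ψ f ^ (q₁ + p₂), by
        rw [add_mul]; exact SetLike.mul_mem_graded s₂.2 (pow_mem_deg' (ψ.map_mem hf) _)⟩
      set c₂ : ℬ ((q₁ + (q₂ + p₁)) * d) := ⟨(s₁ : B) * ψ f ^ (q₂ + p₁), by
        rw [add_mul]; exact SetLike.mul_mem_graded s₁.2 (pow_mem_deg' (ψ.map_mem hf) _)⟩
      set K := (q₂ + (q₁ + p₂)) * d + k₁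
      have hK : (K : ℤ) = (((q₂ + (q₁ + p₂) + p₁) * d : ℕ) : ℤ) + n := by
        simp only [K]; push_cast at h₁ ⊢; rw [h₁]; ring
      have hK₂ : (q₁ + (q₂ + p₁)) * d + k₂ = K := by
        have : (((q₁ + (q₂ + p₁)) * d + k₂ : ℕ) : ℤ) = (K : ℤ) := by
          rw [hK]; push_cast at h₂ ⊢; rw [h₂]; ring
        exact_mod_cast this
      refine ⟨q₁ + q₂, ⟨_, by rw [add_mul]; exact SetLike.mul_mem_graded s₁.2 s₂.2⟩,
        q₂ + (q₁ + p₂) + p₁, K, hK, ⟨_, SetLike.mul_mem_graded c₁.2 x₁.2⟩ +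
          ⟨_, hK₂ ▸ SetLike.mul_mem_graded c₂.2 x₂.2⟩,
        fun h' ↦ (y.isPrime.mem_or_mem h').elim hs₁ hs₂, ?_⟩
      rw [map_add, hGmul _ p₁ _ k₁ _ h₁ hK rfl c₁ x₁ _ rfl,
        hGmul _ p₂ _ k₂ _ h₂ hK (by ring) c₂ x₂ _ rfl,
        show Γm (q₁ + q₂) _ = Γm q₁ s₁ * Γm q₂ s₂ from gam_mul _ _ _ rfl _ _ _ rfl,
        show Γm _ c₁ = Γm q₂ s₂ * Γm _ ⟨_, pow_mem_deg' (ψ.map_mem hf) (q₁ + p₂)⟩ from
          gam_mul _ _ _ rfl _ _ _ rfl,
        show Γm _ c₂ = Γm q₁ s₁ * Γm _ ⟨_, pow_mem_deg' (ψ.map_mem hf) (q₂ + p₁)⟩ from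
          gam_mul _ _ _ rfl _ _ _ rfl,
        show Γm (q₁ + p₂) _ = 1 from gam_one _ _ _ _ rfl,
        show Γm (q₂ + p₁) _ = 1 from gam_one _ _ _ _ rfl,
        mul_one, mul_one, ← ht₁, ← ht₂, smul_smul, smul_smul, smul_add, mul_comm (Γm q₂ s₂)]
  refine ⟨(injective_iff_map_eq_zero _).mpr fun t ht ↦ ?_, fun t ↦ ?_⟩
  · obtain ⟨q, c, p, k, h, x, hc, he⟩ := hrep t
    have h0 : sig e' hlam' (ψ.map_mem hf) hx' p k h x = 0 := by
      rw [← hφ, ← he, map_smul, ht, smul_zero]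
    obtain ⟨q', u, hu, hux⟩ := exists_mul_eq_zero e' hlam' (ψ.map_mem hf) hx' rfl hd h x h0
    have h2 := hGmul q' p (q' + p) k (q' * d + k) h (by push_cast at h ⊢; rw [h]; ring) rfl u x 0
      (by rw [ZeroMemClass.coe_zero, hux])
    rw [map_zero, ← he] at h2
    exact (isUnit_gam e' (ψ.map_mem hf) hx' rfl c hc).smul_eq_zero.mp
      ((isUnit_gam e' (ψ.map_mem hf) hx' rfl u hu).smul_eq_zero.mp h2.symm)
  · obtain ⟨q, c, p, k, h, a, hc, ht⟩ := exists_sig_eq e' hlam' (ψ.map_mem hf) hx' rfl hd t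
    have hu := isUnit_gam e' (ψ.map_mem hf) hx' rfl c hc
    refine ⟨hu.unit⁻¹.val • G p k h a, ?_⟩
    rw [map_smul, hφ, ← ht, smul_smul]
    exact (congrArg (· • t) hu.val_inv_mul).trans (one_smul _ t)

end Groth.Agent.GrBC
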